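import Mathlib
import Cfsg.Agent.H13.Co3.Def
import Cfsg.Agent.H10.Co3.Code
import Cfsg.Agent.H160.QSpin

/-!
# S1920, row `E₆(q)`, `q ≡ 3 mod 4`: the configuration `W₄ ⊥` six lines is impossible (helper10, plan of helper731, helper738)

* `LR z Q rel` : the action of `C_G(z)` on the orthogonal space `(V, Q)` up to scalars;
* `Fr Q b w` : six orthogonal lines and a vector `w` orthogonal to them;
* `kill` : `N0` acts by all even sign changes of the six lines, the number of lines of nonsquare norm is even: `False`.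
-/

set_option autoImplicit false
set_option linter.unusedSectionVars false

open Subgroup QuadraticMap Cfsg.Agent.LieClassical.OrthCore Cfsg.Agent.H13.Co3
open Cfsg.Agent.H10.Co3 (W par sm code_swap)

namespace Cfsg.Agent.H10.Co3.E6K

/-! ### Group theory -/

section Group

variable {G : Type*} [Group G] {P N0 : Subgroup G} {z s : G} {ψ : ↥(normalizer (P : Set G)) →* Equiv.Perm (Fin 6)}

/-- an element of the kernel normalising `N0` has an odd power in `N0` -/
theorem odd_pow_mem [Finite G] (C : CB P N0 z s ψ) {k : G} (hk : k ∈ normalizer (P : Set G))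
    (hkN : k ∈ normalizer (N0 : Set G)) (h1 : ψ ⟨k, hk⟩ = 1) : ∃ m, Odd m ∧ k ^ m ∈ N0 := by
  obtain ⟨t, m, hm, hkm⟩ := Nat.exists_eq_two_pow_mul_odd (orderOf_pos k).ne'
  refine ⟨m, hm, ?_⟩
  set y := k ^ m with hy
  have hyN : y ∈ normalizer (N0 : Set G) := pow_mem hkN m
  have hyP : y ∈ normalizer (P : Set G) := pow_mem hk m
  have hy2 : y ^ 2 ^ t = 1 := by
    rw [hy, ← pow_mul, mul_comm m, ← hkm, pow_orderOf_eq_one]
  have hyψ : ψ ⟨y, hyP⟩ = 1 := by
    have : (⟨y, hyP⟩ : ↥(normalizer (P : Set G))) = ⟨k, hk⟩ ^ m := rfl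
    rw [this, map_pow, h1, one_pow]
  let X : Subgroup G := N0 ⊔ zpowers y
  have hX2 : IsPGroup 2 X := by
    have hg2 : IsPGroup 2 (zpowers y) := by
      rw [IsPGroup.iff_card]
      have h2 : orderOf y ∣ 2 ^ t := orderOf_dvd_of_pow_eq_one hy2
      obtain ⟨j, -, hj⟩ := (Nat.dvd_prime_pow Nat.prime_two).1 h2
      exact ⟨j, by rw [Nat.card_zpowers, hj]⟩
    exact IsPGroup.to_sup_of_normal_left' C.N_two hg2 (by rw [zpowers_le]; exact hyN)
  have hXP : X ≤ normalizer (P : Set G) := sup_le C.NH (by rw [zpowers_le]; exact hyP)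
  have hXk : X.subgroupOf (normalizer (P : Set G)) ≤ ψ.ker := by
    have h2 : X ≤ (ψ.ker).map (normalizer (P : Set G)).subtype := by
      refine sup_le (fun n hn => ?_) ?_
      · exact ⟨⟨n, C.NH hn⟩, C.psi_N n hn, rfl⟩
      · rw [zpowers_le]
        exact ⟨⟨y, hyP⟩, hyψ, rfl⟩
    intro w hw
    obtain ⟨w', hw', hww⟩ := h2 (mem_subgroupOf.1 hw)
    have : w' = w := Subtype.ext hww
    exact this ▸ hw'
  have hcard : Nat.card X ∣ 64 := by
    obtain ⟨r, hr, hc⟩ := C.ker_card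
    have h2 : Nat.card X ∣ 64 * r := by
      rw [← hc, ← Nat.card_congr (subgroupOfEquivOfLe hXP).toEquiv]
      exact Subgroup.card_dvd_of_le hXk
    obtain ⟨j, hj⟩ := (IsPGroup.iff_card (p := 2)).1 hX2
    rw [hj] at h2 ⊢
    exact (Nat.Coprime.pow_left j (Nat.coprime_two_left.2 hr)).dvd_of_dvd_mul_right h2
  have hNX : N0 = X := by
    refine Subgroup.eq_of_le_of_card_ge le_sup_left ?_
    rw [C.card]
    exact Nat.le_of_dvd (by norm_num) hcard
  rw [hNX]
  exact (le_sup_right : zpowers y ≤ X) (mem_zpowers y)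

/-- even permutations come from a subgroup `B` containing the fourth powers of `C_G(N0)` -/
theorem even_of_pow4 (C : CB P N0 z s ψ) (B : Subgroup G) (hB : ∀ c, (∀ n ∈ N0, c * n = n * c) → c ^ 4 ∈ B)
    (π : Equiv.Perm (Fin 6)) (hπ : Equiv.Perm.sign π = 1) :
    ∃ h : ↥(normalizer (P : Set G)), (∀ n ∈ N0, (h : G) * n = n * h) ∧ (h : G) ∈ B ∧ ψ h = π := by
  let S : Subgroup (Equiv.Perm (Fin 6)) :=
    ((centralizer (N0 : Set G) ⊓ B).subgroupOf (normalizer (P : Set G))).map ψ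
  have h1 : alternatingGroup (Fin 6) ≤ S := by
    rw [← Equiv.Perm.closure_three_cycles_eq_alternating, closure_le]
    intro σ hσ
    have hσ3 : σ.IsThreeCycle := hσ
    obtain ⟨h, hh, hψ⟩ := C.even σ hσ3.sign
    refine ⟨h ^ 4, ?_, ?_⟩
    · refine mem_subgroupOf.2 ⟨?_, ?_⟩
      · have h2 : (h : G) ∈ centralizer (N0 : Set G) := mem_centralizer_iff.2 fun n hn => (hh n hn).symm
        exact pow_mem h2 4
      · exact hB h hh
    · rw [map_pow, hψ]
      have h3 : σ ^ 3 = 1 := by rw [← hσ3.orderOf]; exact pow_orderOf_eq_one σ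
      rw [show 4 = 3 + 1 from rfl, pow_succ, h3, one_mul]
  obtain ⟨h, hh, hψ⟩ := h1 (Equiv.Perm.mem_alternatingGroup.2 hπ)
  have h2 := mem_subgroupOf.1 hh
  exact ⟨h, fun n hn => (mem_centralizer_iff.1 h2.1 n hn).symm, h2.2, hψ⟩

theorem z_mem (C : CB P N0 z s ψ) : z ∈ N0 := C.s_sq ▸ mul_mem C.sN C.sN

theorem z_cen (C : CB P N0 z s ψ) {n : G} (hn : n ∈ N0) : n * z = z * n := by
  rw [← C.s_sq, ← mul_assoc, C.s_cen n hn, mul_assoc, C.s_cen n hn, mul_assoc]

theorem pow4 (C : CB P N0 z s ψ) {n : G} (hn : n ∈ N0) : n ^ 4 = 1 := by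
  have h : n ^ 4 = (n * n) * (n * n) := by rw [← pow_two n, ← pow_add]
  rw [h]
  rcases C.sq n hn with h1 | h1
  · rw [h1, one_mul]
  · rw [h1, C.z_sq]

end Group

/-! ### Sign changes -/

section Sg

variable {F V : Type*} [Field F] [AddCommGroup V] [Module F V] {Q : QuadraticForm F V}

/-- six orthogonal lines and a vector orthogonal to them -/
structure Fr (Q : QuadraticForm F V) (b : Fin 6 → V) (w : V) : Prop where
  two : (2 : F) ≠ 0
  ns : ∀ i, Q (b i) ≠ 0
  orth : ∀ i j, i ≠ j → polar Q (b i) (b j) = 0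
  wns : Q w ≠ 0
  worth : ∀ i, polar Q (b i) w = 0

/-- `M` is the sign change of the word `d` -/
def IsSg (Q : QuadraticForm F V) (b : Fin 6 → V) (d : W) (M : V ≃ₗ[F] V) : Prop :=
  (∀ v, (∀ i, polar Q (b i) v = 0) → M v = v) ∧ ∀ i, M (b i) = if d i then - b i else b i

variable {b : Fin 6 → V} {w : V}

theorem ne_zero_of {x : V} (h : Q x ≠ 0) : x ≠ 0 := by
  rintro rfl
  exact h (QuadraticMap.map_zero Q)

theorem pii (x : V) : polar Q x x = 2 * Q x := polar_self' x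

theorem Fr.pne (H : Fr Q b w) (i : Fin 6) : polar Q (b i) (b i) ≠ 0 := by
  rw [pii]; exact mul_ne_zero H.two (H.ns i)

theorem Fr.bne (H : Fr Q b w) (i : Fin 6) : b i ≠ 0 := ne_zero_of (H.ns i)

theorem Fr.wne (H : Fr Q b w) : w ≠ 0 := ne_zero_of H.wns

theorem Fr.inj (H : Fr Q b w) {i j : Fin 6} {c : F} (h : b i = c • b j) : i = j := by
  by_contra hne
  have h1 : polar Q (b i) (b j) = 0 := H.orth i j hne
  have h2 : polar Q (b i) (b i) = 0 := by
    conv_lhs => rw [h]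
    rw [polar_smul_left, polar_smul_right, pii]
    rw [h, polar_smul_left, pii] at h1
    rcases smul_eq_zero.1 h1 with h3 | h3
    · rw [h3, zero_smul]
    · rw [h3, smul_zero, smul_zero]
  exact H.pne i h2

/-- decomposition -/
theorem Fr.dec (H : Fr Q b w) (v : V) : ∃ (v0 : V) (c : Fin 6 → F), (∀ i, polar Q (b i) v0 = 0) ∧ v = v0 + ∑ i, c i • b i := by
  refine ⟨v - ∑ i, ((polar Q (b i) (b i))⁻¹ * polar Q (b i) v) • b i,
    fun i => (polar Q (b i) (b i))⁻¹ * polar Q (b i) v, fun j => ?_, by abel⟩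
  have h1 : polar Q (b j) (∑ i, ((polar Q (b i) (b i))⁻¹ * polar Q (b i) v) • b i) =
      ∑ i, polar Q (b j) (((polar Q (b i) (b i))⁻¹ * polar Q (b i) v) • b i) :=
    map_sum (polarBilin Q (b j)) (fun i => ((polar Q (b i) (b i))⁻¹ * polar Q (b i) v) • b i) Finset.univ
  rw [polar_sub_right, h1, Finset.sum_eq_single j]
  · rw [polar_smul_right, smul_eq_mul]
    have := H.pne j
    field_simp
    ring
  · intro i _ hij
    rw [polar_smul_right, H.orth j i hij.symm, smul_zero]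
  · intro h; exact absurd (Finset.mem_univ j) h

theorem Fr.ext (H : Fr Q b w) {M N : V ≃ₗ[F] V} (h0 : ∀ v, (∀ i, polar Q (b i) v = 0) → M v = N v)
    (h1 : ∀ i, M (b i) = N (b i)) : M = N := by
  ext v
  obtain ⟨v0, c, hv0, rfl⟩ := H.dec v
  rw [map_add, map_add, h0 v0 hv0, map_sum, map_sum]
  congr 1
  refine Finset.sum_congr rfl fun i _ => ?_
  rw [map_smul, map_smul, h1]

theorem IsSg.ext (H : Fr Q b w) {d : W} {M N : V ≃ₗ[F] V} (hM : IsSg Q b d M) (hN : IsSg Q b d N) : M = N :=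
  H.ext (fun v hv => by rw [hM.1 v hv, hN.1 v hv]) fun i => by rw [hM.2, hN.2]

theorem IsSg.mul {d d' : W} {M N : V ≃ₗ[F] V} (hM : IsSg Q b d M) (hN : IsSg Q b d' N) : IsSg Q b (sm d d') (M * N) := by
  refine ⟨fun v hv => ?_, fun i => ?_⟩
  · change M (N v) = v
    rw [hN.1 v hv, hM.1 v hv]
  · change M (N (b i)) = _
    rw [hN.2]
    simp only [sm]
    rcases Bool.eq_false_or_eq_true (d i) with h | h <;> rcases Bool.eq_false_or_eq_true (d' i) with h' | h' <;>
      simp [h, h', hM.2]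

theorem IsSg.one : IsSg Q b (fun _ => false) (1 : V ≃ₗ[F] V) := ⟨fun _ _ => rfl, fun _ => rfl⟩

theorem sm_self (d : W) : sm d d = fun _ => false := by
  funext i; simp [sm]

theorem IsSg.sq (H : Fr Q b w) {d : W} {M : V ≃ₗ[F] V} (hM : IsSg Q b d M) : M * M = 1 := by
  have h := hM.mul hM
  rw [sm_self] at h
  exact h.ext H IsSg.one

theorem IsSg.inv (H : Fr Q b w) {d : W} {M : V ≃ₗ[F] V} (hM : IsSg Q b d M) : M⁻¹ = M :=
  inv_eq_of_mul_eq_one_left (hM.sq H)

/-- the sign changes are determined up to scalars -/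
theorem IsSg.unique (H : Fr Q b w) {d d' : W} {M N : V ≃ₗ[F] V} (hM : IsSg Q b d M) (hN : IsSg Q b d' N) {c : F}
    (h : ∀ v, M v = c • N v) : c = 1 ∧ d = d' := by
  have hc : c = 1 := by
    have h1 := h w
    rw [hM.1 w H.worth, hN.1 w H.worth] at h1
    have h2 : (c - 1) • w = 0 := by rw [sub_smul, one_smul, ← h1, sub_self]
    rcases smul_eq_zero.1 h2 with h3 | h3
    · exact sub_eq_zero.1 h3
    · exact absurd h3 H.wne
  refine ⟨hc, funext fun i => ?_⟩
  have h1 := h (b i)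
  rw [hc, one_smul, hM.2, hN.2] at h1
  have h2 : b i ≠ - b i := by
    intro h2
    have h3 : (2 : F) • b i = 0 := by
      rw [two_smul]; nth_rewrite 1 [h2]; abel
    rcases smul_eq_zero.1 h3 with h4 | h4
    · exact H.two h4
    · exact H.bne i h4
  rcases Bool.eq_false_or_eq_true (d i) with h3 | h3 <;> rcases Bool.eq_false_or_eq_true (d' i) with h4 | h4
  · rw [h3, h4]
  · simp only [h3, h4, if_true] at h1
    exact absurd h1.symm (by simpa using h2)
  · simp only [h3, h4, if_true] at h1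
    exact absurd h1 (by simpa using h2)
  · rw [h3, h4]

/-- conjugation by an isometry permuting the lines -/
theorem IsSg.conj {d : W} {M T : V ≃ₗ[F] V} (hM : IsSg Q b d M) (hT : T ∈ O Q) (σ : Equiv.Perm (Fin 6)) {κ : Fin 6 → F}
    (hκ : ∀ i, κ i ≠ 0) (h : ∀ i, T (b i) = κ i • b (σ i)) : IsSg Q b (fun i => d (σ.symm i)) (T * M * T⁻¹) := by
  have hinv : ∀ x y, T x = y → T⁻¹ y = x := by
    rintro x _ rfl
    exact T.symm_apply_apply x
  refine ⟨fun v hv => ?_, fun i => ?_⟩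
  · obtain ⟨x, rfl⟩ := T.surjective v
    change T (M (T⁻¹ (T x))) = T x
    rw [hinv x _ rfl, hM.1 x]
    intro i
    have h1 := hv (σ i)
    have h2 : polar Q (T (b i)) (T x) = 0 := by rw [h, polar_smul_left, h1, smul_zero]
    rwa [polar_map hT] at h2
  · obtain ⟨j, rfl⟩ := σ.surjective i
    have h1 : T⁻¹ (b (σ j)) = (κ j)⁻¹ • b j := by
      apply hinv
      rw [map_smul, h, smul_smul, inv_mul_cancel₀ (hκ j), one_smul]
    change T (M (T⁻¹ (b (σ j)))) = _
    rw [h1, map_smul, map_smul, hM.2]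
    simp only [Equiv.symm_apply_apply]
    split_ifs
    · rw [map_neg, h, smul_neg, smul_smul, inv_mul_cancel₀ (hκ j), one_smul]
    · rw [h, smul_smul, inv_mul_cancel₀ (hκ j), one_smul]

end Sg

/-! ### The action of `C_G(z)` -/

section Rel

variable {G : Type*} [Group G] {F V : Type*} [Field F] [AddCommGroup V] [Module F V] {Q : QuadraticForm F V}

/-- the action of `C_G(z)` on the orthogonal space, up to scalars -/
structure LR (z : G) (Q : QuadraticForm F V) (rel : G → (V ≃ₗ[F] V) → Prop) : Prop where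
  cen : ∀ {g M}, rel g M → g * z = z * g
  ex : ∀ {g}, g * z = z * g → ∃ M, rel g M
  mul : ∀ {g h M N}, rel g M → rel h N → rel (g * h) (M * N)
  inv : ∀ {g M}, rel g M → rel g⁻¹ M⁻¹
  sim : ∀ {g M}, rel g M → ∃ μ : F, μ ≠ 0 ∧ ∀ v, Q (M v) = μ * Q v
  smul : ∀ {g M} (c : F) (N : V ≃ₗ[F] V), rel g M → c ≠ 0 → (∀ v, N v = c • M v) → rel g N
  one : ∀ {M}, rel 1 M → ∃ c : F, ∀ v, M v = c • v
  ker : ∀ {g}, rel g 1 → ∃ τ : G, Odd (orderOf τ) ∧ (∀ h, h * z = z * h → τ * h = h * τ) ∧ (g = τ ∨ g = τ * z)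
  occ : ∀ M : V ≃ₗ[F] V, (∀ v, Q (M v) = Q v) → LinearMap.det (M : V →ₗ[F] V) = 1 → ∃ g, rel g M

variable {z : G} {rel : G → (V ≃ₗ[F] V) → Prop} {b : Fin 6 → V} {w : V}

/-- `n` has the word `d` -/
def Wd (Q : QuadraticForm F V) (rel : G → (V ≃ₗ[F] V) → Prop) (b : Fin 6 → V) (n : G) (d : W) : Prop :=
  ∃ M, rel n M ∧ IsSg Q b d M

theorem LR.uniq (R : LR z Q rel) (H : Fr Q b w) {g : G} {M N : V ≃ₗ[F] V} (hM : rel g M) (hN : rel g N) :
    ∃ c : F, c ≠ 0 ∧ ∀ v, M v = c • N v := by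
  have h1 := R.mul hM (R.inv hN)
  rw [mul_inv_cancel] at h1
  obtain ⟨c, hc⟩ := R.one h1
  have h2 : ∀ v, M v = c • N v := by
    intro v
    have h3 := hc (N v)
    change M (N⁻¹ (N v)) = _ at h3
    rwa [show N⁻¹ (N v) = v from N.symm_apply_apply v] at h3
  refine ⟨c, ?_, h2⟩
  rintro rfl
  have h3 := h2 w
  rw [zero_smul] at h3
  exact H.wne ((LinearEquiv.map_eq_zero_iff M).1 h3)

theorem Wd.uniq (R : LR z Q rel) (H : Fr Q b w) {n : G} {d d' : W} (h : Wd Q rel b n d) (h' : Wd Q rel b n d') : d = d' := by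
  obtain ⟨M, hM, hMd⟩ := h
  obtain ⟨N, hN, hNd⟩ := h'
  obtain ⟨c, -, hc⟩ := R.uniq H hM hN
  exact (hMd.unique H hNd hc).2

theorem Wd.mul (R : LR z Q rel) {n m : G} {d e : W} (h : Wd Q rel b n d) (h' : Wd Q rel b m e) :
    Wd Q rel b (n * m) (sm d e) := by
  obtain ⟨M, hM, hMd⟩ := h
  obtain ⟨N, hN, hNd⟩ := h'
  exact ⟨M * N, R.mul hM hN, hMd.mul hNd⟩

theorem Wd.conj (R : LR z Q rel) {n g : G} {d : W} {T : V ≃ₗ[F] V} (h : Wd Q rel b n d) (hg : rel g T) (hT : T ∈ O Q)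
    (σ : Equiv.Perm (Fin 6)) {κ : Fin 6 → F} (hκ : ∀ i, κ i ≠ 0) (hb : ∀ i, T (b i) = κ i • b (σ i)) :
    Wd Q rel b (g * n * g⁻¹) (fun i => d (σ.symm i)) := by
  obtain ⟨M, hM, hMd⟩ := h
  exact ⟨T * M * T⁻¹, R.mul (R.mul hg hM) (R.inv hg), hMd.conj hT σ hκ hb⟩

variable {P N0 : Subgroup G} {s : G} {ψ : ↥(normalizer (P : Set G)) →* Equiv.Perm (Fin 6)}

/-- the words of `N0` -/
structure Wds (N0 : Subgroup G) (Q : QuadraticForm F V) (rel : G → (V ≃ₗ[F] V) → Prop) (b : Fin 6 → V) : Prop where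
  ex : ∀ n ∈ N0, ∃ d, par d = false ∧ Wd Q rel b n d
  all : ∀ d, par d = false → ∃ n ∈ N0, Wd Q rel b n d

section Main

variable (C : CB P N0 z s ψ) (R : LR z Q rel) (H : Fr Q b w) (D : Wds N0 Q rel b)

include C R D in
theorem wd_z : Wd Q rel b z (fun _ => false) := by
  obtain ⟨d, -, hd⟩ := D.ex s C.sN
  have h := hd.mul R hd
  rwa [C.s_sq, sm_self] at h

include C R H in
/-- two elements of order dividing 4 with the same word -/
theorem eq_of_wd {x n : G} (hx : x ^ 4 = 1) (hn : n ∈ N0) {d : W} (hxd : Wd Q rel b x d) (hnd : Wd Q rel b n d) :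
    x = n ∨ x = z * n := by
  obtain ⟨M, hM, hMd⟩ := hxd
  obtain ⟨N, hN, hNd⟩ := hnd
  have hMN : M = N := hMd.ext H hNd
  subst hMN
  have h1 := R.mul hM (R.inv hN)
  rw [mul_inv_cancel] at h1
  obtain ⟨τ, hodd, hτ, h⟩ := R.ker h1
  have key : ∀ m ∈ N0, x = τ * m → x = m := by
    intro m hm h
    have hc : τ * m = m * τ := hτ m (z_cen C hm)
    have h2 : τ ^ 4 = 1 := by
      have h3 : x ^ 4 = τ ^ 4 * m ^ 4 := by rw [h, (show Commute τ m from hc).mul_pow]
      rw [hx, pow4 C hm, mul_one] at h3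
      exact h3.symm
    have h3 : orderOf τ ∣ 4 := orderOf_dvd_of_pow_eq_one h2
    have h4 : orderOf τ = 1 := by
      have h5 : Nat.Coprime (orderOf τ) (2 ^ 2) := hodd.coprime_two_right.pow_right 2
      exact Nat.eq_one_of_dvd_coprimes h5 dvd_rfl h3
    rw [h, orderOf_eq_one_iff.1 h4, one_mul]
  rcases h with h | h
  · exact Or.inl (key n hn (by rw [← h]; group))
  · refine Or.inr (key _ (mul_mem (z_mem C) hn) ?_)
    rw [← mul_assoc, ← h]; group

include C R H D in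
theorem wd_zmul {n : G} {d : W} (h : Wd Q rel b n d) : Wd Q rel b (z * n) d := by
  have h1 := (wd_z C R D).mul R h
  have h2 : sm (fun _ => false) d = d := by
    funext i; simp [sm]
  rwa [h2] at h1

include C R H D in
/-- a lift of an isometry permuting the lines normalises `N0` and permutes the words -/
theorem conj_N0 {g : G} {T : V ≃ₗ[F] V} (hg : rel g T) (hT : T ∈ O Q) (σ : Equiv.Perm (Fin 6)) {κ : Fin 6 → F}
    (hκ : ∀ i, κ i ≠ 0) (hb : ∀ i, T (b i) = κ i • b (σ i)) (hpar : ∀ d : W, par d = false → par (fun i => d (σ.symm i)) = false)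
    {n : G} (hn : n ∈ N0) {d : W} (hd : Wd Q rel b n d) :
    g * n * g⁻¹ ∈ N0 ∧ Wd Q rel b (g * n * g⁻¹) (fun i => d (σ.symm i)) := by
  have h1 := hd.conj R hg hT σ hκ hb
  refine ⟨?_, h1⟩
  have hp : par d = false := by
    obtain ⟨d', hd', h2⟩ := D.ex n hn
    rw [hd.uniq R H h2]; exact hd'
  obtain ⟨m, hm, hmd⟩ := D.all _ (hpar d hp)
  have h2 : (g * n * g⁻¹) ^ 4 = 1 := by
    rw [conj_pow, pow4 C hn, mul_one, mul_inv_cancel]
  rcases eq_of_wd C R H h2 hm h1 hmd with h | h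
  · rw [h]; exact hm
  · rw [h]; exact mul_mem (z_mem C) hm

end Main

/-! ### Diagonal elements -/

theorem LR.rel_one (R : LR z Q rel) (H : Fr Q b w) : rel 1 1 := by
  obtain ⟨M, hM⟩ := R.ex (g := 1) (by rw [one_mul, mul_one])
  obtain ⟨c, hc⟩ := R.one hM
  have hc0 : c ≠ 0 := by
    rintro rfl
    have h := hc w
    rw [zero_smul] at h
    exact H.wne ((LinearEquiv.map_eq_zero_iff M).1 h)
  refine R.smul c⁻¹ 1 hM (inv_ne_zero hc0) fun v => ?_
  rw [hc, smul_smul, inv_mul_cancel₀ hc0, one_smul]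
  rfl

/-- `g` acts on the line `i` by `l i = ±1` -/
def Dg (rel : G → (V ≃ₗ[F] V) → Prop) (b : Fin 6 → V) (g : G) (l : Fin 6 → F) : Prop :=
  ∃ M, rel g M ∧ (∀ i, M (b i) = l i • b i) ∧ ∀ i, l i * l i = 1

theorem Dg.mul (R : LR z Q rel) {g h : G} {l m : Fin 6 → F} (hg : Dg rel b g l) (hh : Dg rel b h m) :
    Dg rel b (g * h) (fun i => l i * m i) := by
  obtain ⟨M, hM, hMl, hl⟩ := hg
  obtain ⟨N, hN, hNm, hm⟩ := hh
  refine ⟨M * N, R.mul hM hN, fun i => ?_, fun i => ?_⟩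
  · change M (N (b i)) = _
    rw [hNm, map_smul, hMl, smul_smul, mul_comm]
  · calc l i * m i * (l i * m i) = (l i * l i) * (m i * m i) := by ring
      _ = 1 := by rw [hl, hm, one_mul]

theorem Dg.inv (R : LR z Q rel) {g : G} {l : Fin 6 → F} (hg : Dg rel b g l) : Dg rel b g⁻¹ l := by
  obtain ⟨M, hM, hMl, hl⟩ := hg
  refine ⟨M⁻¹, R.inv hM, fun i => ?_, hl⟩
  have h1 : M (l i • b i) = b i := by rw [map_smul, hMl, smul_smul, hl, one_smul]
  calc M⁻¹ (b i) = M⁻¹ (M (l i • b i)) := by rw [h1]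
    _ = l i • b i := M.symm_apply_apply _

/-- the signs are determined up to a common sign -/
theorem Dg.uniq (R : LR z Q rel) (H : Fr Q b w) {g : G} {l m : Fin 6 → F} (hl : Dg rel b g l) (hm : Dg rel b g m) :
    ∏ i, l i = ∏ i, m i := by
  obtain ⟨M, hM, hMl, hl⟩ := hl
  obtain ⟨N, hN, hNm, hm⟩ := hm
  obtain ⟨c, hc0, hc⟩ := R.uniq H hM hN
  have h1 : ∀ i, l i = c * m i := by
    intro i
    have h2 := hc (b i)
    rw [hMl, hNm, smul_smul] at h2
    have h3 : (l i - c * m i) • b i = 0 := by rw [sub_smul, h2, sub_self]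
    rcases smul_eq_zero.1 h3 with h4 | h4
    · exact sub_eq_zero.1 h4
    · exact absurd h4 (H.bne i)
  have hc2 : c * c = 1 := by
    have h2 := hl 0
    rw [h1 0] at h2
    calc c * c = c * c * (m 0 * m 0) := by rw [hm, mul_one]
      _ = 1 := by rw [← h2]; ring
  simp only [Fin.prod_univ_six, h1]
  linear_combination (m 0 * m 1 * m 2 * m 3 * m 4 * m 5) * ((c * c) * (c * c) + c * c + 1) * hc2

/-- the diagonal elements with product of the signs equal to one -/
def Bp (R : LR z Q rel) (H : Fr Q b w) : Subgroup G where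
  carrier := {g | ∃ l, Dg rel b g l ∧ ∏ i, l i = 1}
  one_mem' := ⟨fun _ => 1, ⟨1, R.rel_one H, fun i => (one_smul F (b i)).symm, fun _ => mul_one 1⟩, by simp⟩
  mul_mem' := by
    rintro g h ⟨l, hl, hl1⟩ ⟨m, hm, hm1⟩
    exact ⟨_, hl.mul R hm, by rw [Finset.prod_mul_distrib, hl1, hm1, mul_one]⟩
  inv_mem' := by
    rintro g ⟨l, hl, hl1⟩
    exact ⟨l, hl.inv R, hl1⟩

theorem mem_Bp {R : LR z Q rel} {H : Fr Q b w} {g : G} : g ∈ Bp R H ↔ ∃ l, Dg rel b g l ∧ ∏ i, l i = 1 := Iff.rfl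

theorem Dg.sq_mem (R : LR z Q rel) (H : Fr Q b w) {g : G} {l : Fin 6 → F} (hg : Dg rel b g l) : g * g ∈ Bp R H := by
  refine ⟨_, hg.mul R hg, ?_⟩
  obtain ⟨M, hM, hMl, hl⟩ := hg
  simp [hl]

theorem prod_par : ∀ d : W, (∏ i, (if d i then (-1 : ℤ) else 1)) = if par d then -1 else 1 := by decide +kernel

theorem Wd.mem_Bp (R : LR z Q rel) (H : Fr Q b w) {n : G} {d : W} (h : Wd Q rel b n d) (hd : par d = false) : n ∈ Bp R H := by
  obtain ⟨M, hM, hMd⟩ := h
  refine ⟨fun i => if d i then -1 else 1, ⟨M, hM, fun i => ?_, fun i => ?_⟩, ?_⟩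
  · rw [hMd.2]
    dsimp only
    split_ifs
    · rw [neg_one_smul]
    · rw [one_smul]
  · dsimp only
    split_ifs
    · ring
    · ring
  · have h1 := congrArg (Int.cast : ℤ → F) (prod_par d)
    rw [hd] at h1
    push_cast at h1
    simpa using h1

theorem IsSg.pol (H : Fr Q b w) {d : W} {M : V ≃ₗ[F] V} (hM : IsSg Q b d M) (i : Fin 6) (v : V) :
    polar Q (b i) (M v) = if d i then - polar Q (b i) v else polar Q (b i) v := by
  obtain ⟨v0, c, hv0, rfl⟩ := H.dec v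
  have e : ∀ (u : Fin 6 → V), polar Q (b i) (∑ j, u j) = ∑ j, polar Q (b i) (u j) := fun u =>
    map_sum (polarBilin Q (b i)) u Finset.univ
  rw [map_add, hM.1 v0 hv0, polar_add_right, polar_add_right, hv0 i, zero_add, zero_add, map_sum, e, e,
    Finset.sum_eq_single i, Finset.sum_eq_single i]
  · rw [map_smul, hM.2]
    split_ifs
    · rw [smul_neg, polar_neg_right]
    · rfl
  · intro j _ hj
    rw [polar_smul_right, H.orth i j hj.symm, smul_zero]
  · intro h; exact absurd (Finset.mem_univ i) h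
  · intro j _ hj
    rw [map_smul, hM.2]
    split_ifs
    · rw [smul_neg, polar_neg_right, polar_smul_right, H.orth i j hj.symm, smul_zero, neg_zero]
    · rw [polar_smul_right, H.orth i j hj.symm, smul_zero]
  · intro h; exact absurd (Finset.mem_univ i) h

/-- the word `{i, j}` -/
def dd (i j : Fin 6) : W := fun k => decide (k = i) || decide (k = j)

theorem par_dd : ∀ i j : Fin 6, i ≠ j → par (dd i j) = false := by decide +kernel

theorem exists_two : ∀ i : Fin 6, ∃ j k : Fin 6, i ≠ j ∧ i ≠ k ∧ j ≠ k := by decide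

/-- an operator commuting with the even sign changes is diagonal on the lines -/
theorem diag_of_comm (H : Fr Q b w) (D : Wds N0 Q rel b) {N : V →ₗ[F] V}
    (hN : ∀ d, par d = false → ∀ S : V ≃ₗ[F] V, IsSg Q b d S → ∀ v, N (S v) = S (N v)) (i : Fin 6) :
    ∃ a : F, N (b i) = a • b i := by
  obtain ⟨j, k, hij, hik, hjk⟩ := exists_two i
  obtain ⟨-, -, S, -, hS⟩ := D.all (dd i j) (par_dd i j hij)
  obtain ⟨-, -, T, -, hT⟩ := D.all (dd i k) (par_dd i k hik)
  obtain ⟨y, hy⟩ : ∃ y, y = N (b i) := ⟨_, rfl⟩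
  have hSb : S (b i) = - b i := by rw [hS.2]; simp [dd]
  have hSy : S y = - y := by rw [hy, ← hN _ (par_dd i j hij) S hS, hSb, map_neg]
  have hTy : T y = - y := by
    rw [hy, ← hN _ (par_dd i k hik) T hT, hT.2]
    simp [dd]
  have key : ∀ (x : F), x = -x → x = 0 := by
    intro x hx
    have h1 : (2 : F) * x = 0 := by linear_combination hx
    exact (mul_eq_zero.1 h1).resolve_left H.two
  have hp : ∀ l, l ≠ i → polar Q (b l) y = 0 := by
    intro l hl
    by_cases hlj : l = j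
    · subst hlj
      have h1 := hT.pol H l y
      rw [hTy, polar_neg_right] at h1
      have h2 : dd i k l = false := by simp [dd, hl, hjk]
      rw [h2] at h1
      exact key _ h1.symm
    · have h1 := hS.pol H l y
      rw [hSy, polar_neg_right] at h1
      have h2 : dd i j l = false := by simp [dd, hl, hlj]
      rw [h2] at h1
      exact key _ h1.symm
  refine ⟨(polar Q (b i) (b i))⁻¹ * polar Q (b i) y, ?_⟩
  rw [← hy]
  obtain ⟨a, ha⟩ : ∃ a, a = (polar Q (b i) (b i))⁻¹ * polar Q (b i) y := ⟨_, rfl⟩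
  rw [← ha]
  have h1 : ∀ l, polar Q (b l) (y - a • b i) = 0 := by
    intro l
    rw [polar_sub_right, polar_smul_right]
    by_cases hl : l = i
    · subst hl
      rw [ha, smul_eq_mul]
      have := H.pne l
      field_simp
      ring
    · rw [hp l hl, H.orth l i hl, smul_zero, sub_zero]
  have h2 : S (y - a • b i) = y - a • b i := hS.1 _ h1
  rw [map_sub, map_smul, hSy, hSb] at h2
  have h3 : (2 : F) • (y - a • b i) = 0 := by
    have h4 : (2 : F) • (y - a • b i) = (y - a • b i) - (-y - a • -b i) := by module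
    rw [h4, h2, sub_self]
  rcases smul_eq_zero.1 h3 with h4 | h4
  · exact absurd h4 H.two
  · exact sub_eq_zero.1 h4

/-- fourth powers of `C_G(N0)` are diagonal with product one -/
theorem pow_four_mem (C : CB P N0 z s ψ) (R : LR z Q rel) (H : Fr Q b w) (D : Wds N0 Q rel b) {c : G}
    (hc : ∀ n ∈ N0, c * n = n * c) : c ^ 4 ∈ Bp R H := by
  obtain ⟨M, hM⟩ := R.ex (hc z (z_mem C))
  -- `M` commutes with the sign changes up to sign
  have hcomm : ∀ d, par d = false → ∀ S : V ≃ₗ[F] V, IsSg Q b d S → ∃ χ : F, χ * χ = 1 ∧ ∀ v, M (S v) = χ • S (M v) := by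
    intro d hd S hS
    obtain ⟨n, hn, S', hS', hSd⟩ := D.all d hd
    have hSS : S' = S := hSd.ext H hS
    subst hSS
    have h1 : rel n (M * S' * M⁻¹) := by
      have h2 := R.mul (R.mul hM hS') (R.inv hM)
      rwa [hc n hn, mul_inv_cancel_right] at h2
    obtain ⟨χ, hχ0, hχ⟩ := R.uniq H h1 hS'
    have h2 : ∀ v, M (S' v) = χ • S' (M v) := by
      intro v
      have h3 := hχ (M v)
      change M (S' (M⁻¹ (M v))) = _ at h3
      rwa [show M⁻¹ (M v) = v from M.symm_apply_apply v] at h3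
    refine ⟨χ, ?_, h2⟩
    have hSS : ∀ v, S' (S' v) = v := fun v => LinearEquiv.congr_fun (hSd.sq H) v
    have h3 : M w = (χ * χ) • M w := by
      conv_lhs => rw [← hSS w]
      rw [h2, h2, map_smul, hSS, smul_smul]
    have h4 : (1 - χ * χ) • M w = 0 := by rw [sub_smul, one_smul, ← h3, sub_self]
    rcases smul_eq_zero.1 h4 with h5 | h5
    · exact (sub_eq_zero.1 h5).symm
    · exact absurd ((LinearEquiv.map_eq_zero_iff M).1 h5) H.wne
  -- `N = M²` commutes with the sign changes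
  have hN : ∀ d, par d = false → ∀ S : V ≃ₗ[F] V, IsSg Q b d S → ∀ v, (M * M : V ≃ₗ[F] V) (S v) = S ((M * M : V ≃ₗ[F] V) v) := by
    intro d hd S hS v
    obtain ⟨χ, hχ, h1⟩ := hcomm d hd S hS
    change M (M (S v)) = S (M (M v))
    rw [h1, map_smul, h1, smul_smul, hχ, one_smul]
  have hrel2 : rel (c * c) (M * M) := R.mul hM hM
  obtain ⟨ν, hν0, hν⟩ := R.sim hrel2
  have hdiag : ∀ i, ∃ a : F, (M * M : V ≃ₗ[F] V) (b i) = a • b i ∧ a * a = ν := by
    intro i
    obtain ⟨a, ha⟩ := diag_of_comm H D (N := ((M * M : V ≃ₗ[F] V) : V →ₗ[F] V)) hN i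
    have ha' : (M * M : V ≃ₗ[F] V) (b i) = a • b i := ha
    refine ⟨a, ha', ?_⟩
    have h1 := hν (b i)
    rw [ha', QuadraticMap.map_smul, smul_eq_mul] at h1
    exact mul_right_cancel₀ (H.ns i) h1
  choose a ha ha2 using hdiag
  have hrel4 : rel (c ^ 4) (LinearEquiv.smulOfNeZero F V ν⁻¹ (inv_ne_zero hν0) * ((M * M) * (M * M))) := by
    have h1 := R.mul hrel2 hrel2
    have h2 : c * c * (c * c) = c ^ 4 := by rw [← pow_two c, ← pow_add]
    rw [h2] at h1
    exact R.smul ν⁻¹ _ h1 (inv_ne_zero hν0) fun v => rfl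
  refine ⟨fun _ => 1, ⟨_, hrel4, fun i => ?_, fun _ => mul_one 1⟩, by simp⟩
  change ν⁻¹ • ((M * M : V ≃ₗ[F] V) ((M * M : V ≃ₗ[F] V) (b i))) = (1 : F) • b i
  rw [ha, map_smul, ha, smul_smul, smul_smul, mul_assoc, ha2, inv_mul_cancel₀ hν0]

/-! ### The two lifts -/

/-- a finite subgroup mapped into itself -/
theorem mem_norm_of_le [Finite G] {P : Subgroup G} {g : G} (h : ∀ p ∈ P, g * p * g⁻¹ ∈ P) : g ∈ normalizer (P : Set G) := by
  have h1 : P.map (MulAut.conj g).toMonoidHom ≤ P := by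
    rintro _ ⟨p, hp, rfl⟩
    exact h p hp
  have h2 : P.map (MulAut.conj g).toMonoidHom = P := by
    refine Subgroup.eq_of_le_of_card_ge h1 ?_
    rw [Subgroup.card_map_of_injective (MulAut.conj g).injective]
  rw [mem_normalizer_iff]
  intro p
  refine ⟨h p, fun hp => ?_⟩
  have h3 : g * p * g⁻¹ ∈ P.map (MulAut.conj g).toMonoidHom := by rw [h2]; exact hp
  obtain ⟨q, hq, hqp⟩ := h3
  have h4 : g * q * g⁻¹ = g * p * g⁻¹ := hqp
  have h5 : q = p := mul_left_cancel (mul_right_cancel h4)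
  rwa [← h5]

theorem det_two [Module.Finite F V] {x y : V} (hx : Q x ≠ 0) (hy : Q y ≠ 0) :
    LinearMap.det ((refl Q x hx * refl Q y hy : V ≃ₗ[F] V) : V →ₗ[F] V) = 1 := by
  have h : LinearEquiv.det (refl Q x hx * refl Q y hy) = 1 := by
    rw [map_mul, Cfsg.Agent.H160.QSpin.det_refl, Cfsg.Agent.H160.QSpin.det_refl]
    norm_num
  have h1 := congrArg Units.val h
  rwa [LinearEquiv.coe_det] at h1

theorem refl_of_orth {x y : V} (hx : Q x ≠ 0) (h : polar Q x y = 0) : refl Q x hx y = y := by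
  rw [refl_apply, h, mul_zero, zero_smul, sub_zero]

theorem refl_self {x : V} (hx : Q x ≠ 0) : refl Q x hx x = - x := by
  rw [refl_apply, pii, show (Q x)⁻¹ * (2 * Q x) = 2 by field_simp, two_smul]
  abel

section Final

variable (C : CB P N0 z s ψ) (R : LR z Q rel) (H : Fr Q b w) (D : Wds N0 Q rel b)

include C R H D in
/-- there is an odd element whose conjugation preserves the words -/
theorem exists_odd [Finite G] [Module.Finite F V] : ∃ g : ↥(normalizer (P : Set G)), (g : G) ∈ normalizer (N0 : Set G) ∧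
    Equiv.Perm.sign (ψ g) = -1 ∧ ∀ n ∈ N0, ∀ d, Wd Q rel b n d → (g : G) * n * (g : G)⁻¹ ∈ N0 ∧
      Wd Q rel b ((g : G) * n * (g : G)⁻¹) d := by
  obtain ⟨T, hTdef⟩ : ∃ T : V ≃ₗ[F] V, T = refl Q w H.wns * refl Q (b 0) (H.ns 0) := ⟨_, rfl⟩
  have hT : T ∈ O Q := by rw [hTdef]; exact (O Q).mul_mem (refl_mem_O _) (refl_mem_O _)
  let κ : Fin 6 → F := fun i => if i = 0 then -1 else 1
  have hκ2 : ∀ i, κ i * κ i = 1 := by
    intro i
    simp only [κ]
    split_ifs <;> ring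
  have hκ : ∀ i, κ i ≠ 0 := fun i h => by
    have := hκ2 i
    rw [h, zero_mul] at this
    exact zero_ne_one this
  have hwb : ∀ i, polar Q w (b i) = 0 := fun i => by rw [polar_comm]; exact H.worth i
  have hTb : ∀ i, T (b i) = κ i • b ((Equiv.refl (Fin 6)) i) := by
    intro i
    rw [hTdef, LinearEquiv.mul_apply]
    by_cases hi : i = 0
    · subst hi
      rw [refl_self, map_neg, refl_of_orth _ (hwb 0)]
      simp [κ]
    · rw [refl_of_orth _ (H.orth 0 i (Ne.symm hi)), refl_of_orth _ (hwb i)]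
      simp [κ, hi]
  obtain ⟨g, hg⟩ := R.occ T hT (by rw [hTdef]; exact det_two _ _)
  have hconj : ∀ n ∈ N0, ∀ d, Wd Q rel b n d → g * n * g⁻¹ ∈ N0 ∧ Wd Q rel b (g * n * g⁻¹) d := by
    intro n hn d hd
    exact conj_N0 C R H D hg hT (Equiv.refl _) hκ hTb (fun d hd => hd) hn hd
  have hgN : g ∈ normalizer (N0 : Set G) := mem_norm_of_le fun n hn => by
    obtain ⟨d, -, hd⟩ := D.ex n hn
    exact (hconj n hn d hd).1
  have hgP : g ∈ normalizer (P : Set G) := by
    refine C.key fun n hn => ?_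
    obtain ⟨d, -, hd⟩ := D.ex n hn
    obtain ⟨h1, h2⟩ := hconj n hn d hd
    rcases eq_of_wd C R H (by rw [pow4 C h1]) hn h2 hd with h | h
    · exact Or.inl (by nth_rewrite 2 [← h]; group)
    · refine Or.inr ?_
      rw [← mul_assoc z n g, ← h]; group
  refine ⟨⟨g, hgP⟩, hgN, ?_, hconj⟩
  rcases Int.units_eq_one_or (Equiv.Perm.sign (ψ ⟨g, hgP⟩)) with h1 | h1
  · exfalso
    obtain ⟨h, hhN, hhB, hhψ⟩ := even_of_pow4 C (Bp R H) (fun c hc => pow_four_mem C R H D hc) _ h1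
    obtain ⟨l, hl, hl1⟩ := mem_Bp.1 hhB
    -- `k = h⁻¹ g`
    have hhN' : (h : G) ∈ normalizer (N0 : Set G) := by
      refine mem_norm_of_le fun n hn => ?_
      rw [hhN n hn, mul_inv_cancel_right]
      exact hn
    have hkP : (h : G)⁻¹ * g ∈ normalizer (P : Set G) := mul_mem (inv_mem h.2) hgP
    have hkN : (h : G)⁻¹ * g ∈ normalizer (N0 : Set G) := mul_mem (inv_mem hhN') hgN
    have hkψ : ψ ⟨(h : G)⁻¹ * g, hkP⟩ = 1 := by
      have : (⟨(h : G)⁻¹ * g, hkP⟩ : ↥(normalizer (P : Set G))) = h⁻¹ * ⟨g, hgP⟩ := rfl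
      rw [this, map_mul, map_inv, hhψ, inv_mul_cancel]
    obtain ⟨m, hm, hkm⟩ := odd_pow_mem C hkP hkN hkψ
    obtain ⟨k, hk⟩ : ∃ k, k = (h : G)⁻¹ * g := ⟨_, rfl⟩
    rw [← hk] at hkm
    have hgD : Dg rel b g κ := ⟨T, hg, hTb, hκ2⟩
    have hkD : Dg rel b k (fun i => l i * κ i) := by rw [hk]; exact (hl.inv R).mul R hgD
    have hk2 := hkD.sq_mem R H
    obtain ⟨j, hj⟩ := hm
    have hkB : k ∈ Bp R H := by
      have h2 : k = ((k * k) ^ j)⁻¹ * k ^ m := by
        rw [hj, pow_succ, pow_mul, pow_two, ← mul_assoc, inv_mul_cancel, one_mul]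
      rw [h2]
      refine mul_mem (inv_mem (pow_mem hk2 j)) ?_
      obtain ⟨d, hd, hnd⟩ := D.ex _ hkm
      exact hnd.mem_Bp R H hd
    have hgB : g ∈ Bp R H := by
      have : g = (h : G) * k := by rw [hk]; group
      rw [this]
      exact mul_mem hhB hkB
    obtain ⟨l', hl', hl1'⟩ := mem_Bp.1 hgB
    have h2 := hgD.uniq R H hl'
    rw [hl1'] at h2
    have h3 : ∏ i, κ i = -1 := by simp [κ]
    rw [h3] at h2
    exact H.two (by linear_combination -h2)
  · exact h1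

include C R H D in
/-- **The kill** : colour classes of lines with an even number of lines of each colour. -/
theorem kill_of_colour [Finite G] [Module.Finite F V] (f : W) (hf : par f = false)
    (hcol : ∀ i j, f i = f j → ∃ c : F, c ≠ 0 ∧ Q (b i) = c * c * Q (b j)) : False := by
  -- the code of `P`
  obtain ⟨i, j, hij, hfij, hcode⟩ := code_swap {d | ∃ p ∈ P, Wd Q rel b p d}
    (by
      rintro d ⟨p, hp, hd⟩
      obtain ⟨d', hd', h2⟩ := D.ex p (C.PN hp)
      rw [hd.uniq R H h2]; exact hd')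
    (by
      rintro u ⟨p, hp, hu⟩ v ⟨q, hq, hv⟩
      exact ⟨p * q, mul_mem hp hq, hu.mul R hv⟩) f hf
  obtain ⟨c, hc0, hc⟩ := hcol i j hfij
  -- the isometry exchanging the lines
  obtain ⟨u, hu⟩ : ∃ u, u = b i - c • b j := ⟨_, rfl⟩
  have hji : polar Q (b j) (b i) = 0 := H.orth j i hij.symm
  have hij0 : polar Q (b i) (b j) = 0 := H.orth i j hij
  have hQu : Q u = 2 * Q (b i) := by
    have h1 : u = b i + (-c) • b j := by rw [hu]; module
    rw [h1, Q_add, QuadraticMap.map_smul, polar_smul_right, hij0, smul_zero, smul_eq_mul]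
    linear_combination -hc
  have hu0 : Q u ≠ 0 := by rw [hQu]; exact mul_ne_zero H.two (H.ns i)
  have hui : polar Q u (b i) = 2 * Q (b i) := by
    rw [hu, polar_sub_left, polar_smul_left, hji, smul_zero, sub_zero, pii]
  have huj : polar Q u (b j) = -(c * (2 * Q (b j))) := by
    rw [hu, polar_sub_left, polar_smul_left, hij0, zero_sub, pii, smul_eq_mul]
  have hul : ∀ l, l ≠ i → l ≠ j → polar Q u (b l) = 0 := by
    intro l h1 h2
    rw [hu, polar_sub_left, polar_smul_left, H.orth i l (Ne.symm h1), H.orth j l (Ne.symm h2), smul_zero, sub_zero]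
  have hwb : ∀ i, polar Q w (b i) = 0 := fun i => by rw [polar_comm]; exact H.worth i
  obtain ⟨T, hTdef⟩ : ∃ T : V ≃ₗ[F] V, T = refl Q u hu0 * refl Q w H.wns := ⟨_, rfl⟩
  have hT : T ∈ O Q := by rw [hTdef]; exact (O Q).mul_mem (refl_mem_O _) (refl_mem_O _)
  let κ : Fin 6 → F := fun l => if l = i then c else if l = j then c⁻¹ else 1
  have hκ : ∀ l, κ l ≠ 0 := by
    intro l
    simp only [κ]
    split_ifs
    · exact hc0
    · exact inv_ne_zero hc0
    · exact one_ne_zero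
  have hTb : ∀ l, T (b l) = κ l • b (Equiv.swap i j l) := by
    intro l
    rw [hTdef, LinearEquiv.mul_apply, refl_of_orth _ (hwb l)]
    by_cases hli : l = i
    · subst hli
      rw [refl_apply, hui, hQu, inv_mul_cancel₀ (by rw [← hQu]; exact hu0), one_smul, Equiv.swap_apply_left, hu]
      simp only [κ, if_true]
      abel
    · by_cases hlj : l = j
      · subst hlj
        rw [refl_apply, huj, hQu, Equiv.swap_apply_right, hu]
        simp only [κ, if_neg hli, if_true]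
        have h2 := H.two
        have h3 := H.ns l
        have h1 : (2 * Q (b i))⁻¹ * -(c * (2 * Q (b l))) = - c⁻¹ := by
          rw [hc]
          field_simp
        rw [h1, smul_sub, neg_smul, neg_smul, smul_smul, inv_mul_cancel₀ hc0, one_smul]
        abel
      · rw [refl_of_orth _ (hul l hli hlj), Equiv.swap_apply_of_ne_of_ne hli hlj]
        simp only [κ, if_neg hli, if_neg hlj, one_smul]
  obtain ⟨g, hg⟩ := R.occ T hT (by rw [hTdef]; exact det_two _ _)
  have hpar : ∀ d : W, par d = false → par (fun l => d ((Equiv.swap i j).symm l)) = false := by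
    intro d hd
    have key : ∀ i j : Fin 6, ∀ d : W, par d = false → par (fun l => d ((Equiv.swap i j).symm l)) = false := by
      decide +kernel
    exact key i j d hd
  have hconj : ∀ n ∈ N0, ∀ d, Wd Q rel b n d → g * n * g⁻¹ ∈ N0 ∧
      Wd Q rel b (g * n * g⁻¹) (fun l => d ((Equiv.swap i j).symm l)) := fun n hn d hd =>
    conj_N0 C R H D hg hT (Equiv.swap i j) hκ hTb hpar hn hd
  have hgN : g ∈ normalizer (N0 : Set G) := mem_norm_of_le fun n hn => by
    obtain ⟨d, -, hd⟩ := D.ex n hn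
    exact (hconj n hn d hd).1
  have hgP : g ∈ normalizer (P : Set G) := mem_norm_of_le fun p hp => by
    obtain ⟨d, -, hd⟩ := D.ex p (C.PN hp)
    obtain ⟨h1, h2⟩ := hconj p (C.PN hp) d hd
    obtain ⟨q, hq, hqd⟩ := hcode d ⟨p, hp, hd⟩
    have hqd' : Wd Q rel b q (fun l => d ((Equiv.swap i j).symm l)) := hqd
    rcases eq_of_wd C R H (pow4 C h1) (C.PN hq) h2 hqd' with h | h
    · rw [h]; exact hq
    · rw [h]; exact mul_mem C.zP hq
  -- an even element
  obtain ⟨h, hhN, hhs, hhc⟩ : ∃ h : ↥(normalizer (P : Set G)), (h : G) ∈ normalizer (N0 : Set G) ∧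
      Equiv.Perm.sign (ψ h) = 1 ∧ ∀ n ∈ N0, ∀ d, Wd Q rel b n d → (h : G) * n * (h : G)⁻¹ ∈ N0 ∧
        Wd Q rel b ((h : G) * n * (h : G)⁻¹) (fun l => d ((Equiv.swap i j).symm l)) := by
    rcases Int.units_eq_one_or (Equiv.Perm.sign (ψ ⟨g, hgP⟩)) with h1 | h1
    · exact ⟨⟨g, hgP⟩, hgN, h1, hconj⟩
    · obtain ⟨g0, hg0N, hg0s, hg0c⟩ := exists_odd C R H D
      refine ⟨⟨g, hgP⟩ * g0, mul_mem hgN hg0N, by rw [map_mul, map_mul, h1, hg0s]; rfl, fun n hn d hd => ?_⟩
      obtain ⟨h2, h3⟩ := hg0c n hn d hd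
      have h4 := hconj _ h2 d h3
      have e : ((⟨g, hgP⟩ * g0 : ↥(normalizer (P : Set G))) : G) * n * ((⟨g, hgP⟩ * g0 : ↥(normalizer (P : Set G))) : G)⁻¹ =
          g * ((g0 : G) * n * (g0 : G)⁻¹) * g⁻¹ := by
        change (g * (g0 : G)) * n * (g * (g0 : G))⁻¹ = _
        group
      rw [e]
      exact h4
  -- `k = h c⁻¹`
  obtain ⟨e, heN, heψ⟩ := C.even _ hhs
  have heN' : (e : G) ∈ normalizer (N0 : Set G) := by
    refine mem_norm_of_le fun n hn => ?_
    rw [heN n hn, mul_inv_cancel_right]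
    exact hn
  have hkP : (h : G) * (e : G)⁻¹ ∈ normalizer (P : Set G) := mul_mem h.2 (inv_mem e.2)
  have hkN : (h : G) * (e : G)⁻¹ ∈ normalizer (N0 : Set G) := mul_mem hhN (inv_mem heN')
  have hkψ : ψ ⟨(h : G) * (e : G)⁻¹, hkP⟩ = 1 := by
    have : (⟨(h : G) * (e : G)⁻¹, hkP⟩ : ↥(normalizer (P : Set G))) = h * e⁻¹ := rfl
    rw [this, map_mul, map_inv, heψ, mul_inv_cancel]
  obtain ⟨m, hm, hkm⟩ := odd_pow_mem C hkP hkN hkψ
  obtain ⟨k, hk⟩ : ∃ k, k = (h : G) * (e : G)⁻¹ := ⟨_, rfl⟩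
  rw [← hk] at hkm
  have hkc : ∀ n ∈ N0, ∀ d, Wd Q rel b n d → k * n * k⁻¹ ∈ N0 ∧
      Wd Q rel b (k * n * k⁻¹) (fun l => d ((Equiv.swap i j).symm l)) := by
    intro n hn d hd
    have e1 : k * n * k⁻¹ = (h : G) * n * (h : G)⁻¹ := by
      have e2 : (e : G)⁻¹ * n * (e : G) = n := by
        rw [mul_assoc, ← heN n hn, inv_mul_cancel_left]
      rw [hk]
      calc (h : G) * (e : G)⁻¹ * n * ((h : G) * (e : G)⁻¹)⁻¹ = (h : G) * ((e : G)⁻¹ * n * (e : G)) * (h : G)⁻¹ := by group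
        _ = _ := by rw [e2]
    rw [e1]
    exact hhc n hn d hd
  have hk2 : ∀ t : ℕ, ∀ n ∈ N0, ∀ d, Wd Q rel b n d → k ^ (2 * t) * n * (k ^ (2 * t))⁻¹ ∈ N0 ∧
      Wd Q rel b (k ^ (2 * t) * n * (k ^ (2 * t))⁻¹) d := by
    intro t
    induction t with
    | zero =>
      intro n hn d hd
      rw [mul_zero, pow_zero, one_mul, inv_one, mul_one]
      exact ⟨hn, hd⟩
    | succ t ih =>
      intro n hn d hd
      obtain ⟨h1, h2⟩ := ih n hn d hd
      obtain ⟨h3, h4⟩ := hkc _ h1 d h2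
      obtain ⟨h5, h6⟩ := hkc _ h3 _ h4
      have e1 : k ^ (2 * (t + 1)) * n * (k ^ (2 * (t + 1)))⁻¹ =
          k * (k * (k ^ (2 * t) * n * (k ^ (2 * t))⁻¹) * k⁻¹) * k⁻¹ := by
        have e2 : k ^ (2 * (t + 1)) = k * k * k ^ (2 * t) := by
          rw [← pow_two, ← pow_add]; congr 1; ring
        rw [e2]
        group
      rw [e1]
      refine ⟨h5, ?_⟩
      have e3 : (fun l => (fun l => d ((Equiv.swap i j).symm l)) ((Equiv.swap i j).symm l)) = d := by
        funext l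
        simp only [Equiv.symm_swap, Equiv.swap_apply_self]
      rwa [e3] at h6
  obtain ⟨t, ht⟩ := hm
  -- a word distinguishing `i` and `j`
  obtain ⟨l, hli, hlj⟩ : ∃ l : Fin 6, l ≠ i ∧ l ≠ j := by
    have key : ∀ i j : Fin 6, ∃ l : Fin 6, l ≠ i ∧ l ≠ j := by decide
    exact key i j
  obtain ⟨n, hn, hnd⟩ := D.all (dd i l) (par_dd i l (Ne.symm hli))
  obtain ⟨h1, h2⟩ := hk2 t n hn _ hnd
  obtain ⟨h3, h4⟩ := hkc _ h1 _ h2
  have e1 : k * (k ^ (2 * t) * n * (k ^ (2 * t))⁻¹) * k⁻¹ = k ^ m * n * (k ^ m)⁻¹ := by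
    rw [ht, pow_succ']
    group
  rw [e1] at h4
  have h5 : Wd Q rel b (k ^ m * n * (k ^ m)⁻¹) (dd i l) := by
    rcases C.comm _ hkm n hn with h5 | h5
    · rw [h5, mul_inv_cancel_right]; exact hnd
    · rw [h5, mul_assoc z, mul_inv_cancel_right]
      exact wd_zmul C R H D hnd
  have h6 := congrFun (h4.uniq R H h5) i
  simp [dd, hij.symm, hlj.symm, Ne.symm hli] at h6

end Final

end Rel

end Cfsg.Agent.H10.Co3.E6K
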