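import Mathlib
import Cfsg.Agent.H10.Co3.E6Kill
import Cfsg.Agent.H738.E6.Def

/-!
# S1920, row `E₆(q)`, `q ≡ 3 mod 4`: the final configuration of helper738's analysis is impossible (helper10)

* `kill : CB P N0 z s ψ → Rel10 z N0 Q rel → Four6 N0 Q rel w l → False`
-/

set_option autoImplicit false
set_option linter.unusedSectionVars false

open Subgroup QuadraticMap Cfsg.Agent.LieClassical.OrthCore Cfsg.Agent.H13.Co3 Cfsg.Agent.H738.E6
open Cfsg.Agent.H10.Co3 (W par sm code_swap)

namespace Cfsg.Agent.H10.Co3.E6K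

variable {G : Type*} [Group G] {F V : Type*} [Field F] [AddCommGroup V] [Module F V] {Q : QuadraticForm F V}
  {z : G} {N0 : Subgroup G} {rel : G → (V ≃ₗ[F] V) → Prop} {w : Fin 4 → V} {l : Fin 6 → V}

theorem lr_of (R : Rel10 z N0 Q rel) : LR z Q rel where
  cen := R.cen
  ex := R.ex
  mul := R.mul
  inv := R.inv
  sim h := by
    obtain ⟨μ, h1, h2, -⟩ := R.sim h
    exact ⟨μ, h1, h2⟩
  smul c N h _ hN := R.smul c h hN
  one := R.one
  ker := R.ker
  occ := R.occ

theorem fr_of (R : Rel10 z N0 Q rel) (W4 : Four6 N0 Q rel w l) : Fr Q l (w 0) where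
  two := R.two
  ns := W4.lQ
  orth := W4.ll
  wns := W4.wQ 0
  worth i := by rw [polar_comm]; exact W4.wl 0 i

/-- the orthogonal basis -/
def bs (w : Fin 4 → V) (l : Fin 6 → V) : Fin 10 → V := (Fin.append w l : Fin (4 + 6) → V)

theorem bs_all {p : V → Prop} (hw : ∀ i, p (w i)) (hl : ∀ i, p (l i)) : ∀ i, p (bs w l i) := by
  intro i
  refine Fin.addCases (m := 4) (n := 6) (motive := fun i => p (bs w l i)) (fun i => ?_) (fun i => ?_) i
  · change p ((Fin.append w l : Fin (4 + 6) → V) (Fin.castAdd 6 i))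
    rw [Fin.append_left]; exact hw i
  · change p ((Fin.append w l : Fin (4 + 6) → V) (Fin.natAdd 4 i))
    rw [Fin.append_right]; exact hl i

theorem bs_orth (W4 : Four6 N0 Q rel w l) : ∀ i j, i ≠ j → polar Q (bs w l i) (bs w l j) = 0 := by
  intro i j
  refine Fin.addCases (m := 4) (n := 6) (motive := fun i => i ≠ j → polar Q (bs w l i) (bs w l j) = 0)
    (fun i => ?_) (fun i => ?_) i
  · refine Fin.addCases (m := 4) (n := 6) (motive := fun j => Fin.castAdd 6 i ≠ j →
      polar Q (bs w l (Fin.castAdd 6 i)) (bs w l j) = 0) (fun j => ?_) (fun j => ?_) j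
    · intro h
      change polar Q ((Fin.append w l : Fin (4 + 6) → V) (Fin.castAdd 6 i))
        ((Fin.append w l : Fin (4 + 6) → V) (Fin.castAdd 6 j)) = 0
      rw [Fin.append_left, Fin.append_left]
      exact W4.ww i j fun h' => h (by rw [h'])
    · intro _
      change polar Q ((Fin.append w l : Fin (4 + 6) → V) (Fin.castAdd 6 i))
        ((Fin.append w l : Fin (4 + 6) → V) (Fin.natAdd 4 j)) = 0
      rw [Fin.append_left, Fin.append_right]
      exact W4.wl i j
  · refine Fin.addCases (m := 4) (n := 6) (motive := fun j => Fin.natAdd 4 i ≠ j →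
      polar Q (bs w l (Fin.natAdd 4 i)) (bs w l j) = 0) (fun j => ?_) (fun j => ?_) j
    · intro _
      change polar Q ((Fin.append w l : Fin (4 + 6) → V) (Fin.natAdd 4 i))
        ((Fin.append w l : Fin (4 + 6) → V) (Fin.castAdd 6 j)) = 0
      rw [Fin.append_left, Fin.append_right, polar_comm]
      exact W4.wl j i
    · intro h
      change polar Q ((Fin.append w l : Fin (4 + 6) → V) (Fin.natAdd 4 i))
        ((Fin.append w l : Fin (4 + 6) → V) (Fin.natAdd 4 j)) = 0
      rw [Fin.append_right, Fin.append_right]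
      exact W4.ll i j fun h' => h (by rw [h'])

/-- vectors orthogonal to an orthogonal basis vanish -/
theorem eq_zero_of_orth (h2 : (2 : F) ≠ 0) (hdim : Module.finrank F V = 10) (hnd : ∀ v, (∀ w, polar Q v w = 0) → v = 0)
    {e : Fin 10 → V} (he : ∀ i, Q (e i) ≠ 0) (ho : ∀ i j, i ≠ j → polar Q (e i) (e j) = 0) {v : V}
    (hv : ∀ i, polar Q (e i) v = 0) : v = 0 := by
  have hpe : ∀ i, polar Q (e i) (e i) ≠ 0 := fun i => by rw [pii]; exact mul_ne_zero h2 (he i)
  have hsum : ∀ (i : Fin 10) (u : Fin 10 → V), polar Q (e i) (∑ j, u j) = ∑ j, polar Q (e i) (u j) := fun i u =>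
    map_sum (polarBilin Q (e i)) u Finset.univ
  have hli : LinearIndependent F e := by
    rw [Fintype.linearIndependent_iff]
    intro c hc i
    have h1 : polar Q (e i) (∑ j, c j • e j) = 0 := by rw [hc]; simp [polar]
    rw [hsum, Finset.sum_eq_single i] at h1
    · rw [polar_smul_right, smul_eq_mul] at h1
      exact (mul_eq_zero.1 h1).resolve_right (hpe i)
    · intro j _ hj
      rw [polar_smul_right, ho i j hj.symm, smul_zero]
    · intro h; exact absurd (Finset.mem_univ i) h
  have hspan : Submodule.span F (Set.range e) = ⊤ := by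
    have : FiniteDimensional F V := Module.finite_of_finrank_pos (by rw [hdim]; norm_num)
    exact hli.span_eq_top_of_card_eq_finrank' (by rw [hdim]; simp)
  refine hnd v fun y => ?_
  have hy : y ∈ Submodule.span F (Set.range e) := by rw [hspan]; exact Submodule.mem_top
  induction hy using Submodule.span_induction with
  | mem x hx =>
    obtain ⟨i, rfl⟩ := hx
    rw [polar_comm]; exact hv i
  | zero => simp [polar]
  | add x y _ _ hx hy => rw [polar_add_right, hx, hy, add_zero]
  | smul a x _ hx => rw [polar_smul_right, hx, smul_zero]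

/-- an operator fixing the `w i` fixes the vectors orthogonal to the lines -/
theorem fix_of (R : Rel10 z N0 Q rel) (W4 : Four6 N0 Q rel w l) {M : V ≃ₗ[F] V} (hM : ∀ i, M (w i) = w i) {v : V}
    (hv : ∀ i, polar Q (l i) v = 0) : M v = v := by
  have hpw : ∀ i, polar Q (w i) (w i) ≠ 0 := fun i => by rw [pii]; exact mul_ne_zero R.two (W4.wQ i)
  have hsum : ∀ (x : V) (u : Fin 4 → V), polar Q x (∑ j, u j) = ∑ j, polar Q x (u j) := fun x u =>
    map_sum (polarBilin Q x) u Finset.univ
  have h0 : v - ∑ i, ((polar Q (w i) (w i))⁻¹ * polar Q (w i) v) • w i = 0 := by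
    refine eq_zero_of_orth R.two R.dim R.nd (e := bs w l) (bs_all (p := fun x => Q x ≠ 0) W4.wQ W4.lQ) (bs_orth W4) ?_
    refine bs_all (p := fun x => polar Q x (v - ∑ i, ((polar Q (w i) (w i))⁻¹ * polar Q (w i) v) • w i) = 0) (fun i => ?_)
      (fun i => ?_)
    · rw [polar_sub_right, hsum, Finset.sum_eq_single i]
      · rw [polar_smul_right, smul_eq_mul]
        have := hpw i
        field_simp
        ring
      · intro j _ hj
        rw [polar_smul_right, W4.ww i j hj.symm, smul_zero]
      · intro h; exact absurd (Finset.mem_univ i) h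
    · rw [polar_sub_right, hsum, hv, Finset.sum_eq_zero, sub_zero]
      intro j _
      rw [polar_smul_right, polar_comm Q (l i) (w j), W4.wl j i, smul_zero]
  rw [sub_eq_zero] at h0
  rw [h0, map_sum]
  refine Finset.sum_congr rfl fun i _ => ?_
  rw [map_smul, hM]

theorem det_one (R : Rel10 z N0 Q rel) (W4 : Four6 N0 Q rel w l) {n : G} {M : V ≃ₗ[F] V} (h : rel n M)
    (hM : ∀ i, M (w i) = w i) : LinearMap.det (M : V →ₗ[F] V) = 1 := by
  obtain ⟨μ, hμ, h1, h2⟩ := R.sim h
  have h3 := h1 (w 0)
  rw [hM] at h3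
  have h4 : μ = 1 := by
    have h5 : (μ - 1) * Q (w 0) = 0 := by linear_combination -h3
    exact sub_eq_zero.1 ((mul_eq_zero.1 h5).resolve_right (W4.wQ 0))
  rw [h2, h4, one_pow]

/-- the word `{0}` -/
def d0 : W := fun i => decide (i = 0)

theorem par_d0 : ∀ d : W, par d = true → par (sm d d0) = false := by decide +kernel

theorem sm_d0 : ∀ d : W, sm d (sm d d0) = d0 := by
  intro d; funext i; simp [sm]

theorem prod_units : ∀ d : W, par d = false → ∏ i, (if d i then (-1 : ℤˣ) else 1) = 1 := by decide +kernel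

theorem exists_even (R : Rel10 z N0 Q rel) (W4 : Four6 N0 Q rel w l) (d : W) (hd : par d = false) :
    ∃ n ∈ N0, ∃ M, rel n M ∧ (∀ i, M (w i) = w i) ∧ IsSg Q l d M := by
  obtain ⟨n, hn, M, hM, hw, hl⟩ := W4.all _ (prod_units d hd)
  refine ⟨n, hn, M, hM, hw, fun v hv => fix_of R W4 hw hv, fun i => ?_⟩
  rw [hl]
  split_ifs with h
  · simp
  · simp

theorem wds_of (R : Rel10 z N0 Q rel) (W4 : Four6 N0 Q rel w l) : Wds N0 Q rel l where
  ex n hn := by
    classical
    obtain ⟨M, hM, hw, hl⟩ := W4.act n hn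
    have H := fr_of R W4
    have hne : ∀ i, l i ≠ - l i := by
      intro i h
      have h3 : (2 : F) • l i = 0 := by
        rw [two_smul]; nth_rewrite 1 [h]; abel
      rcases smul_eq_zero.1 h3 with h4 | h4
      · exact H.two h4
      · exact H.bne i h4
    let d : W := fun i => decide (M (l i) = - l i)
    have hd : IsSg Q l d M := by
      refine ⟨fun v hv => fix_of R W4 hw hv, fun i => ?_⟩
      by_cases h : M (l i) = - l i
      · simp only [d, h, decide_true, if_true]
      · rcases hl i with h1 | h1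
        · simp only [d, h, decide_false, h1]
          simp
        · exact absurd h1 h
    refine ⟨d, ?_, M, hM, hd⟩
    by_contra hp
    rw [Bool.not_eq_false] at hp
    obtain ⟨n', -, M', hM', hw', hd'⟩ := exists_even R W4 _ (par_d0 d hp)
    have h1 := hd.mul hd'
    rw [sm_d0] at h1
    have h2 : IsSg Q l d0 (refl Q (l 0) (W4.lQ 0)) := by
      refine ⟨fun v hv => refl_of_orth _ (hv 0), fun i => ?_⟩
      by_cases hi : i = 0
      · subst hi
        rw [refl_self]; simp [d0]
      · rw [refl_of_orth _ (W4.ll 0 i (Ne.symm hi))]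
        simp [d0, hi]
    have h3 := h1.ext H h2
    have h4 : LinearMap.det ((M * M' : V ≃ₗ[F] V) : V →ₗ[F] V) = 1 := by
      have h5 : ((M * M' : V ≃ₗ[F] V) : V →ₗ[F] V) = (M : V →ₗ[F] V) * (M' : V →ₗ[F] V) := rfl
      rw [h5, map_mul, det_one R W4 hM hw, det_one R W4 hM' hw', mul_one]
    have : FiniteDimensional F V := Module.finite_of_finrank_pos (by rw [R.dim]; norm_num)
    have h5 : LinearMap.det ((refl Q (l 0) (W4.lQ 0) : V ≃ₗ[F] V) : V →ₗ[F] V) = -1 := by
      have h6 := congrArg Units.val (Cfsg.Agent.H160.QSpin.det_refl (Q := Q) (W4.lQ 0))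
      rw [LinearEquiv.coe_det] at h6
      rw [h6]; rfl
    rw [h3, h5] at h4
    exact R.two (by linear_combination -h4)
  all d hd := by
    obtain ⟨n, hn, M, hM, -, h⟩ := exists_even R W4 d hd
    exact ⟨n, hn, M, hM, h⟩

/-- **The final configuration is impossible.** -/
theorem kill [Finite G] [Finite F] {P : Subgroup G} {s : G} {ψ : ↥(normalizer (P : Set G)) →* Equiv.Perm (Fin 6)}
    (C : CB P N0 z s ψ) (R : Rel10 z N0 Q rel) (W4 : Four6 N0 Q rel w l) : False := by
  classical
  have : Fintype F := Fintype.ofFinite F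
  have : FiniteDimensional F V := Module.finite_of_finrank_pos (by rw [R.dim]; norm_num)
  have hchar : ringChar F ≠ 2 := by
    intro h
    apply R.two
    have h1 := (ringChar.spec F 2).2 (by rw [h])
    exact_mod_cast h1
  let χ := quadraticChar F
  have hχ : ∀ i, χ (Q (l i)) = if decide (¬ IsSquare (Q (l i))) then -1 else 1 := by
    intro i
    by_cases h : IsSquare (Q (l i))
    · simp only [h, not_true_eq_false, decide_false]
      exact (quadraticChar_one_iff_isSquare (W4.lQ i)).2 h
    · simp only [h, not_false_eq_true, decide_true, if_true]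
      exact quadraticChar_neg_one_iff_not_isSquare.2 h
  have hprod : χ (∏ i, Q (l i)) = 1 := by
    have h1 : χ (∏ i, Q (w i)) = -1 := quadraticChar_neg_one_iff_not_isSquare.2 W4.nsq
    have h2 : χ (∏ i, Q (bs w l i)) = -1 :=
      quadraticChar_neg_one_iff_not_isSquare.2 (R.disc (bs w l) (bs_all (p := fun x => Q x ≠ 0) W4.wQ W4.lQ) (bs_orth W4))
    have h3 : ∏ i, Q (bs w l i) = (∏ i, Q (w i)) * ∏ i, Q (l i) := by
      have h4 := Fin.prod_univ_add (a := 4) (b := 6) (fun i => Q ((Fin.append w l : Fin (4 + 6) → V) i))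
      simp only [Fin.append_left, Fin.append_right] at h4
      exact h4
    rw [h3, map_mul, h1] at h2
    linarith
  refine kill_of_colour C (lr_of R) (fr_of R W4) (wds_of R W4) (fun i => decide (¬ IsSquare (Q (l i)))) ?_ ?_
  · have h1 := prod_par (fun i => decide (¬ IsSquare (Q (l i))))
    rw [map_prod] at hprod
    simp only [hχ] at hprod
    rw [hprod] at h1
    by_contra hp
    rw [Bool.not_eq_false] at hp
    rw [hp] at h1
    norm_num at h1
  · intro i j hij
    have h1 : χ (Q (l i)) = χ (Q (l j)) := by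
      rw [hχ, hχ, hij]
    have h2 : IsSquare (Q (l i) * Q (l j)) := by
      rw [← quadraticChar_one_iff_isSquare (mul_ne_zero (W4.lQ i) (W4.lQ j)), map_mul]
      change χ (Q (l i)) * χ (Q (l j)) = 1
      rw [h1, ← pow_two]
      exact quadraticChar_sq_one (W4.lQ j)
    obtain ⟨r, hr⟩ := h2
    have hj := W4.lQ j
    have hi := W4.lQ i
    have hr0 : r ≠ 0 := by
      rintro rfl
      rw [mul_zero] at hr
      exact mul_ne_zero hi hj hr
    refine ⟨r / Q (l j), div_ne_zero hr0 hj, ?_⟩
    field_simp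
    linear_combination hr

end Cfsg.Agent.H10.Co3.E6K
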